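import Groth.Agent.L28.ConstSect.Restrict
import Groth.Agent.L27.FEtGal.SplitFinite
import Groth.Prelude.Def_FEt
import Mathlib.AlgebraicGeometry.Morphisms.FlatMono
import Mathlib.AlgebraicGeometry.Morphisms.Etale
import Mathlib.AlgebraicGeometry.Limits

/-! # Restriction of finite étale covers to a dense open -/

universe u

open CategoryTheory CategoryTheory.Limits AlgebraicGeometry Opposite TopologicalSpace Topology

set_option autoImplicit false
set_option backward.isDefEq.respectTransparency.types false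
set_option linter.style.haveILetI false

noncomputable section

namespace Groth.L28.ConstSect

variable {S U : Scheme.{u}} (i : U ⟶ S)

/-- The open is dense in every étale scheme over the base. -/
def DenseEt : Prop := ∀ (T : Scheme.{u}) (t : T ⟶ S) [Etale t], Dense (t.base ⁻¹' Set.range i.base)

/-- Clopens over the open extend, in every étale scheme over the base. -/
def ExtEt : Prop := ∀ (T : Scheme.{u}) (t : T ⟶ S) [Etale t], ClopenExt (t.base ⁻¹' Set.range i.base)

variable {i}

omit i in
theorem isOpenImmersion_of_etale_mono {A B : Scheme.{u}} (f : A ⟶ B) [Etale f] [Mono f] : IsOpenImmersion f :=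
  IsOpenImmersion.of_flat_of_mono f

omit i in
/-- A clopen set containing a dense set is everything. -/
theorem eq_univ_of_dense {T : Type*} [TopologicalSpace T] {C W : Set T} (hC : IsClosed C) (hW : Dense W)
    (h : W ⊆ C) : C = Set.univ :=
  Set.eq_univ_of_univ_subset (hW.closure_eq ▸ closure_minimal h hC)

omit i in
/-- Morphisms into a separated étale scheme agreeing on a dense part agree. -/
theorem eq_of_dense {A P Z : Scheme.{u}} {p : Z ⟶ S} [Etale p] [IsSeparated p] (a b : A ⟶ Z)
    (h : a ≫ p = b ≫ p) (f : P ⟶ A) (hf : Dense (Set.range f.base)) (e : f ≫ a = f ≫ b) : a = b := by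
  let l : A ⟶ pullback p p := pullback.lift a b h
  let k := pullback.fst l (pullback.diagonal p)
  haveI : IsClosedImmersion k := inferInstance
  haveI : IsOpenImmersion k := inferInstance
  have hr : Set.range k.base = Set.univ := eq_univ_of_dense k.isClosedEmbedding.isClosed_range hf (by
    rintro _ ⟨x, rfl⟩
    refine ⟨pullback.lift f (f ≫ a) ?_ x, ?_⟩
    · apply pullback.hom_ext <;> simp only [l, Category.assoc, pullback.lift_fst, pullback.lift_snd,
        pullback.diagonal_fst, pullback.diagonal_snd, Category.comp_id, e]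
    · rw [← Scheme.Hom.comp_apply, pullback.lift_fst])
  haveI : Surjective k := ⟨Set.range_eq_univ.1 hr⟩
  haveI : IsIso k := isIso_iff_isOpenImmersion_and_epi_base k |>.2 ⟨inferInstance, (TopCat.epi_iff_surjective _).2 k.surjective⟩
  have w := pullback.condition (f := l) (g := pullback.diagonal p)
  have h1 := congrArg (· ≫ pullback.fst p p) w
  have h2 := congrArg (· ≫ pullback.snd p p) w
  simp only [l, Category.assoc, pullback.lift_fst, pullback.lift_snd, pullback.diagonal_fst,
    pullback.diagonal_snd, Category.comp_id] at h1 h2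
  exact (cancel_epi k).1 (h1.trans h2.symm)

theorem restrict_map_fst {A B : FEt.Cat S} (φ : A ⟶ B) :
    ((FEt.restrict i).map φ).left ≫ pullback.fst B.hom i = pullback.fst A.hom i ≫ φ.left := by
  exact pullback.lift_fst _ _ _

theorem range_fst {A : Scheme.{u}} (a : A ⟶ S) : Set.range (pullback.fst a i).base = a.base ⁻¹' Set.range i.base :=
  Scheme.Pullback.range_fst a i

theorem faithful_restrict (hD : DenseEt i) : (FEt.restrict i).Faithful := by
  refine ⟨fun {A B} φ ψ h => MorphismProperty.Over.Hom.ext ?_⟩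
  let a : A.left ⟶ S := A.hom
  let b : B.left ⟶ S := B.hom
  haveI : IsFinite b := B.prop.1
  haveI : Etale b := B.prop.2
  haveI : Etale a := A.prop.2
  refine eq_of_dense (p := b) φ.left ψ.left
    ((MorphismProperty.Over.w φ).trans (MorphismProperty.Over.w ψ).symm) (pullback.fst a i)
    (range_fst a ▸ hD _ a) ?_
  exact (restrict_map_fst φ).symm.trans ((congrArg (fun k => k.left ≫ pullback.fst b i) h).trans (restrict_map_fst ψ))

variable [IsOpenImmersion i]

/-- Morphisms over the open extend. -/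
theorem exists_extend (hD : DenseEt i) (hE : ExtEt i) {A B : Scheme.{u}} (a : A ⟶ S) (b : B ⟶ S) [Etale a]
    [Etale b] [IsFinite b] (m : pullback a i ⟶ B) (hm : m ≫ b = pullback.fst a i ≫ a) :
    ∃ ψ : A ⟶ B, ψ ≫ b = a ∧ pullback.fst a i ≫ ψ = m := by
  let P := pullback a i
  let f : P ⟶ A := pullback.fst a i
  let q : pullback a b ⟶ A := pullback.fst a b
  let σ : P ⟶ pullback a b := pullback.lift f m hm.symm
  have hσ : σ ≫ q = f := pullback.lift_fst _ _ _
  haveI : Mono f := inferInstance
  haveI : Mono σ := mono_of_mono_fac hσ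
  haveI : Etale (σ ≫ q) := by rw [hσ]; infer_instance
  haveI : Etale σ := Etale.of_comp σ q
  haveI : IsOpenImmersion σ := isOpenImmersion_of_etale_mono σ
  let g := pullback.fst q f
  have hW : Set.range g.base = (q ≫ a).base ⁻¹' Set.range i.base :=
    (Scheme.Pullback.range_fst q f).trans (by rw [range_fst]; rfl)
  let σ' : P ⟶ pullback q f := pullback.lift σ (𝟙 P) (hσ.trans (Category.id_comp f).symm)
  have hσ' : σ' ≫ g = σ := pullback.lift_fst _ _ _
  haveI : IsClosedImmersion (σ' ≫ pullback.snd q f) := by rw [pullback.lift_snd]; infer_instance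
  haveI : IsClosedImmersion σ' := IsClosedImmersion.of_comp σ' (pullback.snd q f)
  have hopen : IsOpen (Set.range g.base \ Set.range σ.base) := by
    have : Set.range g.base \ Set.range σ.base = g.base '' (Set.range σ'.base)ᶜ := by
      have h2 : Set.range σ.base = g.base '' Set.range σ'.base := by
        rw [← Set.range_comp]; exact congrArg (fun k : P ⟶ _ => Set.range k.base) hσ'.symm
      rw [h2, Set.image_compl_eq_range_sdiff_image g.isOpenEmbedding.injective]
    rw [this]
    exact g.isOpenEmbedding.isOpenMap _ σ'.isClosedEmbedding.isClosed_range.isOpen_compl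
  have hsub : Set.range σ.base ⊆ Set.range g.base := by
    rintro _ ⟨x, rfl⟩
    exact ⟨σ' x, congrArg (fun k : P ⟶ _ => k.base x) hσ'⟩
  haveI : Etale (q ≫ a) := inferInstance
  obtain ⟨E, hEc, hEW⟩ : ∃ E : Set (pullback a b : Scheme.{u}), IsClopen E ∧ E ∩ Set.range g.base = Set.range σ.base := by
    have := hE _ (q ≫ a)
    rw [← hW] at this
    exact this _ σ.isOpenEmbedding.isOpen_range hopen hsub
  let EO : (pullback a b).Opens := ⟨E, hEc.2⟩
  haveI : IsClosedImmersion EO.ι := IsClosedImmersion.of_isPreimmersion EO.ι (by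
    rw [Scheme.Opens.range_ι]; exact hEc.1)
  let e : EO.toScheme ⟶ A := EO.ι ≫ q
  haveI : IsFinite e := inferInstance
  haveI : Etale e := inferInstance
  have hl : Set.range σ.base ⊆ Set.range EO.ι.base := by
    rw [Scheme.Opens.range_ι]; exact hEW ▸ Set.inter_subset_left
  let l : P ⟶ EO.toScheme := IsOpenImmersion.lift EO.ι σ hl
  have hlf : l ≫ e = f := by
    rw [← Category.assoc, IsOpenImmersion.lift_fac, hσ]
  have hds : Dense (Set.range f.base) := range_fst a ▸ hD _ a
  have hsurj : Set.range e.base = Set.univ := eq_univ_of_dense e.isClosedMap.isClosed_range hds (by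
    rintro _ ⟨x, rfl⟩
    exact ⟨l x, congrArg (fun k : P ⟶ _ => k.base x) hlf⟩)
  haveI : Mono e := by
    rw [← pullback.isIso_diagonal_iff]
    let d := pullback.diagonal e
    let r : pullback e e ⟶ S := pullback.fst e e ≫ e ≫ a
    haveI : Etale r := inferInstance
    haveI : IsOpenImmersion d := inferInstance
    haveI : IsClosedImmersion d := inferInstance
    have hr : Set.range d.base = Set.univ := eq_univ_of_dense d.isClosedEmbedding.isClosed_range (hD _ r) (by
      intro z hz
      let O : (pullback e e).Opens := ⟨r.base ⁻¹' Set.range i.base, i.isOpenEmbedding.isOpen_range.preimage r.continuous⟩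
      have hfac : ∀ p : pullback e e ⟶ EO.toScheme, p ≫ e ≫ a = r →
          Set.range (O.ι ≫ p ≫ EO.ι).base ⊆ Set.range σ.base := by
        intro p hp
        rintro _ ⟨x, rfl⟩
        rw [← hEW]
        refine ⟨(p (O.ι x)).2, ?_⟩
        rw [hW]
        show (q ≫ a) ((O.ι ≫ p ≫ EO.ι) x) ∈ Set.range i.base
        have hx : r (O.ι x) ∈ Set.range i.base := x.2
        rw [← hp] at hx
        simpa only [e, Scheme.Hom.comp_apply] using hx
      have h2 : pullback.snd e e ≫ e ≫ a = r :=
        ((Category.assoc _ _ _).symm.trans (congrArg (· ≫ a) pullback.condition.symm)).trans (Category.assoc _ _ _)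
      let v₁ := IsOpenImmersion.lift σ (O.ι ≫ pullback.fst e e ≫ EO.ι) (hfac _ rfl)
      let v₂ := IsOpenImmersion.lift σ (O.ι ≫ pullback.snd e e ≫ EO.ι) (hfac _ h2)
      have hv : v₁ = v₂ := by
        rw [← cancel_mono f, ← hσ, ← Category.assoc, ← Category.assoc, IsOpenImmersion.lift_fac,
          IsOpenImmersion.lift_fac]
        simpa [e] using congrArg (O.ι ≫ ·) (pullback.condition (f := e) (g := e))
      have hp : O.ι ≫ pullback.fst e e = O.ι ≫ pullback.snd e e := by
        rw [← cancel_mono EO.ι, Category.assoc, Category.assoc,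
          ← IsOpenImmersion.lift_fac σ (O.ι ≫ pullback.fst e e ≫ EO.ι) (hfac _ rfl),
          ← IsOpenImmersion.lift_fac σ (O.ι ≫ pullback.snd e e ≫ EO.ι) (hfac _ h2)]
        exact congrArg (· ≫ σ) hv
      refine ⟨(O.ι ≫ pullback.fst e e) ⟨z, hz⟩, ?_⟩
      have : (O.ι ≫ pullback.fst e e) ≫ d = O.ι := by
        apply pullback.hom_ext
        · simp [d]
        · rw [Category.assoc, pullback.diagonal_snd, Category.comp_id]; exact hp
      exact congrArg (fun k : O.toScheme ⟶ _ => k.base (⟨z, hz⟩ : O)) this)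
    haveI : Surjective d := ⟨Set.range_eq_univ.1 hr⟩
    exact isIso_iff_isOpenImmersion_and_epi_base d |>.2 ⟨inferInstance, (TopCat.epi_iff_surjective _).2 d.surjective⟩
  haveI : IsOpenImmersion e := isOpenImmersion_of_etale_mono e
  haveI : IsIso e := isIso_iff_isOpenImmersion_and_epi_base e |>.2
    ⟨inferInstance, (TopCat.epi_iff_surjective _).2 (Set.range_eq_univ.1 hsurj)⟩
  refine ⟨inv e ≫ EO.ι ≫ pullback.snd a b, ?_, ?_⟩
  · rw [Category.assoc, Category.assoc, ← pullback.condition, IsIso.inv_comp_eq]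
    simp only [e, q, Category.assoc]
  · show f ≫ _ = m
    rw [← hlf, Category.assoc, IsIso.hom_inv_id_assoc, ← Category.assoc, IsOpenImmersion.lift_fac,
      pullback.lift_snd]

theorem full_restrict (hD : DenseEt i) (hE : ExtEt i) : (FEt.restrict i).Full := by
  refine ⟨fun {A B} φ => ?_⟩
  let a : A.left ⟶ S := A.hom
  let b : B.left ⟶ S := B.hom
  haveI : IsFinite b := B.prop.1
  haveI : Etale b := B.prop.2
  haveI : Etale a := A.prop.2
  have w : φ.left ≫ pullback.snd b i = pullback.snd a i := MorphismProperty.Over.w φ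
  obtain ⟨ψ, h1, h2⟩ := exists_extend hD hE a b (φ.left ≫ pullback.fst b i)
    (((Category.assoc _ _ _).trans (congrArg (φ.left ≫ ·) pullback.condition)).trans
      ((Category.assoc _ _ _).symm.trans ((congrArg (· ≫ i) w).trans pullback.condition.symm)))
  refine ⟨MorphismProperty.Over.homMk ψ h1, MorphismProperty.Over.Hom.ext (pullback.hom_ext ?_ ?_)⟩
  · exact (restrict_map_fst _).trans h2
  · exact (MorphismProperty.Over.w ((FEt.restrict i).map (MorphismProperty.Over.homMk ψ h1 : A ⟶ B))).trans w.symm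

omit i in
/-- The two fold trivial cover. -/
def two (S : Scheme.{u}) : FEt.Cat S :=
  MorphismProperty.Over.mk ⊤ (Sigma.desc fun _ : Fin 2 => 𝟙 S)
    ⟨L27.FEtGal.isFinite_foldId 2, L27.FEtGal.etale_foldId⟩

omit i in
/-- A section of the trivial cover. -/
def sec (S : Scheme.{u}) (k : Fin 2) : (MorphismProperty.Over.mk ⊤ (𝟙 S) ⟨inferInstance, inferInstance⟩ : FEt.Cat S) ⟶ two S :=
  MorphismProperty.Over.homMk (Sigma.ι (fun _ : Fin 2 => S) k) (Sigma.ι_desc _ _)

omit [IsOpenImmersion i] in
theorem nonempty_of_faithful [Nonempty S] (h : (FEt.restrict i).Faithful) : Nonempty U := by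
  by_contra hU
  rw [not_nonempty_iff] at hU
  haveI := h
  haveI : IsEmpty (pullback (𝟙 S) i : Scheme.{u}) := Function.isEmpty (pullback.snd (𝟙 S) i).base
  have e : sec S 0 = sec S 1 := (FEt.restrict i).map_injective
    (MorphismProperty.Over.Hom.ext ((isInitialOfIsEmpty (X := pullback (𝟙 S) i)).hom_ext _ _))
  let x : S := Classical.arbitrary S
  exact (disjoint_opensRange_sigmaι (fun _ : Fin 2 => S) 0 1 Fin.zero_ne_one).le_bot
    (show Sigma.ι (fun _ : Fin 2 => S) 0 x ∈ _ from
      ⟨⟨x, rfl⟩, ⟨x, (congrArg (fun k => k.left x) e).symm⟩⟩)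

omit [IsOpenImmersion i] in
theorem clopenExt_of_full (h : (FEt.restrict i).Full) : ClopenExt (Set.range i.base) := by
  intro C hC hC' hsub
  haveI := h
  let p := pullback.fst (𝟙 S) i
  have hp : Set.range p.base = Set.range i.base := by rw [range_fst]; rfl
  let P := pullback (𝟙 S) i
  let O₀ : P.Opens := ⟨p.base ⁻¹' C, hC.preimage p.continuous⟩
  let O₁ : P.Opens := ⟨p.base ⁻¹' (Set.range i.base \ C), hC'.preimage p.continuous⟩
  have hcompl : IsCompl O₀.ι.opensRange O₁.ι.opensRange := by
    simp only [Scheme.Opens.opensRange_ι]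
    constructor
    · rw [disjoint_iff]
      exact Opens.ext (Set.eq_empty_of_forall_notMem fun x hx => hx.2.2 hx.1)
    · rw [codisjoint_iff]
      refine Opens.ext (Set.eq_univ_of_forall fun x => ?_)
      by_cases hx : p.base x ∈ C
      · exact Or.inl hx
      · exact Or.inr ⟨hp ▸ ⟨x, rfl⟩, hx⟩
  obtain ⟨hc⟩ := nonempty_isColimit_binaryCofanMk_of_isCompl O₀.ι O₁.ι hcompl
  let m : P ⟶ (two S).left := hc.desc (BinaryCofan.mk (O₀.ι ≫ p ≫ Sigma.ι (fun _ : Fin 2 => S) 0)
    (O₁.ι ≫ p ≫ Sigma.ι (fun _ : Fin 2 => S) 1))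
  have hm₀ : O₀.ι ≫ m = O₀.ι ≫ p ≫ Sigma.ι (fun _ : Fin 2 => S) 0 := hc.fac _ ⟨WalkingPair.left⟩
  have hm₁ : O₁.ι ≫ m = O₁.ι ≫ p ≫ Sigma.ι (fun _ : Fin 2 => S) 1 := hc.fac _ ⟨WalkingPair.right⟩
  have hfold : ∀ k, Sigma.ι (fun _ : Fin 2 => S) k ≫ (two S).hom = 𝟙 S := fun k => Sigma.ι_desc _ _
  have hm : m ≫ (two S).hom = p := by
    refine BinaryCofan.IsColimit.hom_ext hc ?_ ?_
    · exact ((Category.assoc _ _ _).symm.trans ((congrArg (· ≫ (two S).hom) hm₀).trans
        ((Category.assoc _ _ _).trans (congrArg (O₀.ι ≫ ·) ((Category.assoc _ _ _).trans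
          ((congrArg (p ≫ ·) (hfold 0)).trans (Category.comp_id _)))))))
    · exact ((Category.assoc _ _ _).symm.trans ((congrArg (· ≫ (two S).hom) hm₁).trans
        ((Category.assoc _ _ _).trans (congrArg (O₁.ι ≫ ·) ((Category.assoc _ _ _).trans
          ((congrArg (p ≫ ·) (hfold 1)).trans (Category.comp_id _)))))))
  let T : FEt.Cat S := MorphismProperty.Over.mk ⊤ (𝟙 S) ⟨inferInstance, inferInstance⟩
  let φ : (FEt.restrict i).obj T ⟶ (FEt.restrict i).obj (two S) := MorphismProperty.Over.homMk
    (pullback.lift m (pullback.snd (𝟙 S) i) (hm.trans ((Category.comp_id _).symm.trans pullback.condition)))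
    (pullback.lift_snd _ _ _)
  let ψ : T ⟶ two S := (FEt.restrict i).preimage φ
  have hψ : p ≫ ψ.left = m := (restrict_map_fst ψ).symm.trans
    ((congrArg (fun k => k.left ≫ pullback.fst (two S).hom i) ((FEt.restrict i).map_preimage φ)).trans
      (pullback.lift_fst _ _ _))
  let ι₀ := Sigma.ι (fun _ : Fin 2 => S) 0
  let ι₁ := Sigma.ι (fun _ : Fin 2 => S) 1
  have hdis : ∀ z, z ∈ Set.range ι₀.base → z ∉ Set.range ι₁.base := fun z h0 h1 =>
    (disjoint_opensRange_sigmaι (fun _ : Fin 2 => S) 0 1 Fin.zero_ne_one).le_bot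
      (show z ∈ _ from ⟨h0, h1⟩)
  refine ⟨ψ.left.base ⁻¹' Set.range ι₀.base, ⟨?_, ι₀.isOpenEmbedding.isOpen_range.preimage ψ.left.continuous⟩, ?_⟩
  · refine IsClosed.preimage ψ.left.continuous ⟨?_⟩
    have : (Set.range ι₀.base)ᶜ = Set.range ι₁.base := by
      ext z
      refine ⟨fun hz => ?_, fun hz h0 => hdis z h0 hz⟩
      obtain ⟨k, y, rfl⟩ := (sigmaOpenCover fun _ : Fin 2 => S).exists_eq z
      change Fin 2 at k
      match k, y, hz with
      | 0, y, hz => exact absurd ⟨y, rfl⟩ hz
      | 1, y, hz => exact ⟨y, rfl⟩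
    exact (congrArg IsOpen this).mpr ι₁.isOpenEmbedding.isOpen_range
  · ext s
    constructor
    · rintro ⟨hs, hr⟩
      obtain ⟨x, rfl⟩ := hp.ge hr
      by_contra hx
      refine hdis _ hs ⟨p.base x, ?_⟩
      have h1 := congrArg (fun k : O₁.toScheme ⟶ _ => k.base (⟨x, hr, hx⟩ : O₁))
        ((congrArg (O₁.ι ≫ ·) hψ).trans hm₁)
      exact h1.symm
    · intro hs
      obtain ⟨x, rfl⟩ := hp.ge (hsub hs)
      refine ⟨⟨p.base x, ?_⟩, hsub hs⟩
      exact (congrArg (fun k : O₀.toScheme ⟶ _ => k.base (⟨x, hs⟩ : O₀))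
        ((congrArg (O₀.ι ≫ ·) hψ).trans hm₀)).symm

end Groth.L28.ConstSect
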