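import Groth.Agent.L28.LocConstAb.Sect
import Groth.Agent.L27.EtSite.Points
import Mathlib.Topology.LocallyConstant.Basic
import Mathlib.AlgebraicGeometry.Morphisms.UniversallyOpen

/-! # Sections of constant sheaves as locally constant functions -/

universe u

open CategoryTheory CategoryTheory.Limits AlgebraicGeometry Opposite TopologicalSpace

set_option autoImplicit false
set_option backward.isDefEq.respectTransparency.types false
set_option linter.style.haveILetI false

noncomputable section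

namespace Groth.L28.ConstSect

variable {X : Scheme.{u}} (M : Type) [AddCommGroup M]

/-- A constant section. -/
def c (V : X.Etale) (m : M) : (EtCoh.const X M).obj.obj (op V) :=
  LocConst.cs X.smallEtaleTopology (AddCommGrpCat.of (ULift.{u + 1} M)) V (ULift.up m)

theorem c_map {V W : X.Etale} (g : W ⟶ V) (m : M) : (EtCoh.const X M).obj.map g.op (c M V m) = c M W m :=
  ConcreteCategory.congr_hom (LocConst.cs_map (J := X.smallEtaleTopology) (AddCommGrpCat.of (ULift.{u + 1} M)) g) _

theorem c_inj {V : X.Etale} (v : V.left) : Function.Injective (c M V) := fun a b hab => by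
  obtain ⟨Ω, _, _, ξ, hξ⟩ := L27.EtSite.exists_geometric_point (V.hom.base v)
  obtain ⟨y, -⟩ := L27.EtSite.exists_fiber ξ V v hξ.symm
  let A := AddCommGrpCat.of (ULift.{u + 1} M)
  have hl := Pts.constSect_sheafFiberConstIso_hom (Scheme.pointSmallEtale ξ)
    (GrothendieckTopology.Point.W_isInvertedBy_presheafFiber' _) A V y
  have h := congrArg (fun t => (Pts.sheafFiberConstIso (Scheme.pointSmallEtale ξ)
    (GrothendieckTopology.Point.W_isInvertedBy_presheafFiber' _) A).hom
    ((Scheme.pointSmallEtale ξ).toPresheafFiber V y (EtCoh.const X M).obj t)) hab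
  exact congrArg ULift.down
    ((ConcreteCategory.congr_hom hl (ULift.up a)).symm.trans (h.trans (ConcreteCategory.congr_hom hl (ULift.up b))))

variable {M} {V : X.Etale}

/-- A section takes the value `m` near the point `x`. -/
def HasVal (s : (EtCoh.const X M).obj.obj (op V)) (x : V.left) (m : M) : Prop :=
  ∃ (W : X.Etale) (g : W ⟶ V) (w : W.left), g.left.base w = x ∧ (EtCoh.const X M).obj.map g.op s = c M W m

theorem exists_hasVal (s : (EtCoh.const X M).obj.obj (op V)) (x : V.left) : ∃ m, HasVal s x m := by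
  obtain ⟨W, g, w, hg, hw⟩ := (L27.EtSite.mem_topology_iff _).1 (Presheaf.imageSieve_mem X.smallEtaleTopology
    (toSheafify X.smallEtaleTopology ((Functor.const X.Etaleᵒᵖ).obj (AddCommGrpCat.of (ULift.{u + 1} M)))) s) x
  obtain ⟨t, ht⟩ := hg
  exact ⟨t.down, W, g, w, hw, ht.symm⟩

theorem exists_common {W₁ W₂ : X.Etale} (g₁ : W₁ ⟶ V) (g₂ : W₂ ⟶ V) (w₁ : W₁.left) (w₂ : W₂.left)
    (h : g₁.left.base w₁ = g₂.left.base w₂) :
    ∃ (W : X.Etale) (p₁ : W ⟶ W₁) (p₂ : W ⟶ W₂) (w : W.left),
      p₁.left.base w = w₁ ∧ p₂.left.base w = w₂ ∧ p₁ ≫ g₁ = p₂ ≫ g₂ := by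
  obtain ⟨z, h1, h2⟩ := Scheme.Pullback.exists_preimage_pullback w₁ w₂ h
  let a : W₁.left ⟶ X := W₁.hom
  let b : W₂.left ⟶ X := W₂.hom
  let v : V.left ⟶ X := V.hom
  haveI : Etale a := W₁.prop
  haveI : Etale b := W₂.prop
  haveI : Etale v := V.prop
  let k₁ : W₁.left ⟶ V.left := g₁.left
  let k₂ : W₂.left ⟶ V.left := g₂.left
  haveI : Etale (k₂ ≫ v) := by rw [show k₂ ≫ v = b from MorphismProperty.Over.w g₂]; infer_instance
  haveI : Etale k₂ := Etale.of_comp k₂ v
  haveI : Etale (pullback.fst k₁ k₂) := MorphismProperty.pullback_fst _ _ ‹Etale k₂›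
  let W : X.Etale := MorphismProperty.Over.mk ⊤ (pullback.fst k₁ k₂ ≫ a)
    (inferInstanceAs (Etale (pullback.fst k₁ k₂ ≫ a)))
  refine ⟨W, MorphismProperty.Over.homMk (pullback.fst k₁ k₂) rfl,
    MorphismProperty.Over.homMk (pullback.snd k₁ k₂) ?_, z, h1, h2,
    MorphismProperty.Over.Hom.ext pullback.condition⟩
  exact (congrArg (pullback.snd k₁ k₂ ≫ ·) (MorphismProperty.Over.w g₂).symm).trans
    ((Category.assoc _ _ _).symm.trans ((congrArg (· ≫ v) pullback.condition.symm).trans
      ((Category.assoc _ _ _).trans (congrArg (pullback.fst k₁ k₂ ≫ ·) (MorphismProperty.Over.w g₁)))))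

theorem hasVal_unique {s : (EtCoh.const X M).obj.obj (op V)} {x : V.left} {a b : M}
    (ha : HasVal s x a) (hb : HasVal s x b) : a = b := by
  obtain ⟨W₁, g₁, w₁, h₁, e₁⟩ := ha
  obtain ⟨W₂, g₂, w₂, h₂, e₂⟩ := hb
  obtain ⟨W, p₁, p₂, w, -, -, e⟩ := exists_common g₁ g₂ w₁ w₂ (h₁.trans h₂.symm)
  refine c_inj M w ((c_map M p₁ a).symm.trans (Eq.trans ?_ (c_map M p₂ b)))
  refine (congrArg _ e₁.symm).trans (Eq.trans ?_ (congrArg _ e₂))
  refine (Functor.map_comp_apply _ _ _ _).symm.trans (Eq.trans ?_ (Functor.map_comp_apply _ _ _ _))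
  exact congrArg (fun l => (EtCoh.const X M).obj.map (Quiver.Hom.op l) s) e

/-- The value of a section at a point. -/
def val (s : (EtCoh.const X M).obj.obj (op V)) (x : V.left) : M := (exists_hasVal s x).choose

theorem hasVal_val (s : (EtCoh.const X M).obj.obj (op V)) (x : V.left) : HasVal s x (val s x) :=
  (exists_hasVal s x).choose_spec

theorem val_eq {s : (EtCoh.const X M).obj.obj (op V)} {x : V.left} {m : M} (h : HasVal s x m) : val s x = m :=
  hasVal_unique (hasVal_val s x) h

theorem val_c (m : M) (x : V.left) : val (c M V m) x = m :=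
  val_eq ⟨V, 𝟙 V, x, rfl, c_map M (𝟙 V) m⟩

theorem val_map {W : X.Etale} (g : W ⟶ V) (s : (EtCoh.const X M).obj.obj (op V)) (w : W.left) :
    val ((EtCoh.const X M).obj.map g.op s) w = val s (g.left.base w) := by
  obtain ⟨W₁, g₁, w₁, h₁, e₁⟩ := hasVal_val ((EtCoh.const X M).obj.map g.op s) w
  refine (val_eq ⟨W₁, g₁ ≫ g, w₁, congrArg g.left.base h₁, ?_⟩).symm
  exact (Functor.map_comp_apply _ g.op g₁.op s).trans e₁

theorem isLocallyConstant_val (s : (EtCoh.const X M).obj.obj (op V)) : IsLocallyConstant (val s) := by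
  refine (IsLocallyConstant.iff_exists_open _).2 fun x => ?_
  obtain ⟨W, g, w, hg, e⟩ := hasVal_val s x
  let k : W.left ⟶ V.left := g.left
  let a : W.left ⟶ X := W.hom
  let v : V.left ⟶ X := V.hom
  haveI : Etale v := V.prop
  haveI : Etale (k ≫ v) := by rw [show k ≫ v = a from MorphismProperty.Over.w g]; exact W.prop
  haveI : Etale k := Etale.of_comp k v
  refine ⟨Set.range k, k.isOpenMap.isOpen_range, ⟨w, hg⟩, ?_⟩
  rintro _ ⟨w', rfl⟩
  exact val_eq ⟨W, g, w', rfl, e⟩

theorem val_injective (s t : (EtCoh.const X M).obj.obj (op V)) (h : ∀ x, val s x = val t x) : s = t := by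
  let S : Sieve V := ⟨fun W g => (EtCoh.const X M).obj.map g.op s = (EtCoh.const X M).obj.map g.op t,
    fun {W W'} g hg k => by
      show (EtCoh.const X M).obj.map (k ≫ g).op s = (EtCoh.const X M).obj.map (k ≫ g).op t
      rw [op_comp, Functor.map_comp_apply, Functor.map_comp_apply, hg]⟩
  refine (EtCoh.const X M).property.isSeparated V S ?_ s t fun W g hg => hg
  refine (L27.EtSite.mem_topology_iff S).2 fun x => ?_
  · obtain ⟨W₁, g₁, w₁, h₁, e₁⟩ := hasVal_val s x
    obtain ⟨W₂, g₂, w₂, h₂, e₂⟩ := hasVal_val t x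
    obtain ⟨W, p₁, p₂, w, hw₁, -, e⟩ := exists_common g₁ g₂ w₁ w₂ (h₁.trans h₂.symm)
    refine ⟨W, p₁ ≫ g₁, w, ?_, (congrArg g₁.left.base hw₁).trans h₁⟩
    show (EtCoh.const X M).obj.map (p₁ ≫ g₁).op s = (EtCoh.const X M).obj.map (p₁ ≫ g₁).op t
    refine (Functor.map_comp_apply _ g₁.op p₁.op s).trans ((congrArg _ e₁).trans ((c_map M p₁ _).trans ?_))
    rw [h x]
    refine (c_map M p₂ _).symm.trans ((congrArg _ e₂.symm).trans ((Functor.map_comp_apply _ g₂.op p₂.op t).symm.trans ?_))
    exact congrArg (fun l => (EtCoh.const X M).obj.map (Quiver.Hom.op l) t) e.symm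

/-- An open subscheme as an étale neighbourhood. -/
def openSub (V : X.Etale) (O : V.left.Opens) : X.Etale :=
  let v : V.left ⟶ X := V.hom
  haveI : Etale v := V.prop
  MorphismProperty.Over.mk ⊤ (O.ι ≫ v) (inferInstanceAs (Etale (O.ι ≫ v)))

/-- The inclusion of an open subscheme. -/
def openSubHom (V : X.Etale) (O : V.left.Opens) : openSub V O ⟶ V :=
  MorphismProperty.Over.homMk O.ι rfl

/-- Every locally constant function is the value of a section. -/
theorem exists_val_eq (f : LocallyConstant V.left M) : ∃ s : (EtCoh.const X M).obj.obj (op V), ∀ x, val s x = f x := by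
  let O : ULift.{u + 1} M → V.left.Opens := fun m => ⟨f ⁻¹' {m.down}, f.isLocallyConstant _⟩
  let S : Sieve V := Sieve.ofArrows (fun m => openSub V (O m)) (fun m => openSubHom V (O m))
  have hS : S ∈ X.smallEtaleTopology V := (L27.EtSite.mem_topology_iff S).2 fun x =>
    ⟨_, openSubHom V (O ⟨f x⟩), (⟨x, rfl⟩ : O ⟨f x⟩), Sieve.ofArrows_mk _ _ (⟨f x⟩ : ULift.{u + 1} M), rfl⟩
  have hsh := (isSheaf_iff_isSheaf_of_type _ _).1
    ((sheafCompose X.smallEtaleTopology (CategoryTheory.forget AddCommGrpCat.{u + 1})).obj (EtCoh.const X M)).property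
  have hfor := (Presieve.isSheafFor_iff_generate _).2 (hsh S hS)
  obtain ⟨s, hs, -⟩ := (Presieve.isSheafFor_arrows_iff _ _).1 hfor
    (fun m => c M (openSub V (O m)) m.down) (fun i k Z gi gk hgk => by
      show (EtCoh.const X M).obj.map gi.op _ = (EtCoh.const X M).obj.map gk.op _
      rw [c_map, c_map]
      refine val_injective _ _ fun z => ?_
      rw [val_c, val_c]
      have e : ((O i).ι (gi.left z) : V.left) = (O k).ι (gk.left z) :=
        congrArg (fun l : Z ⟶ V => l.left.base z) hgk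
      have h1 : f ((O i).ι (gi.left z)) = i.down := (gi.left z).2
      have h2 : f ((O k).ι (gk.left z)) = k.down := (gk.left z).2
      exact h1.symm.trans ((congrArg f e).trans h2))
  refine ⟨s, fun x => val_eq ⟨_, openSubHom V (O ⟨f x⟩), (⟨x, rfl⟩ : O ⟨f x⟩), rfl, hs ⟨f x⟩⟩⟩

theorem subsingleton_of_isEmpty [IsEmpty V.left] : Subsingleton ((EtCoh.const X M).obj.obj (op V)) :=
  ⟨fun s t => val_injective s t fun x => isEmptyElim x⟩

end Groth.L28.ConstSect
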