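import Groth.Agent.L28.ConstSect.Basic
import Mathlib.Data.ZMod.Basic
import Mathlib.Data.Fintype.Basic

/-! # Restriction of sections of constant sheaves to an open -/

universe u

open CategoryTheory CategoryTheory.Limits AlgebraicGeometry Opposite TopologicalSpace Topology

set_option autoImplicit false
set_option backward.isDefEq.respectTransparency.types false
set_option linter.style.haveILetI false

noncomputable section

namespace Groth.L28.ConstSect

/-- Relatively clopen subsets of `W` extend to clopen subsets. -/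
def ClopenExt {Z : Type*} [TopologicalSpace Z] (W : Set Z) : Prop :=
  ∀ C : Set Z, IsOpen C → IsOpen (W \ C) → C ⊆ W → ∃ E : Set Z, IsClopen E ∧ E ∩ W = C

variable {X : Scheme.{u}} {M : Type} [AddCommGroup M] {V' V : X.Etale} (m : V' ⟶ V)

/-- Dense image gives injective restriction. -/
theorem injective_res (h : Dense (Set.range m.left.base)) :
    Function.Injective ((EtCoh.const X M).obj.map m.op) := by
  intro s t e
  refine val_injective s t fun x => ?_
  have hw : ∀ w, val s (m.left.base w) = val t (m.left.base w) := fun w => by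
    rw [← val_map, ← val_map, e]
  have ho : IsOpen {z | val s z ≠ val t z} :=
    ((isLocallyConstant_val s).prodMk (isLocallyConstant_val t)) {p : M × M | p.1 ≠ p.2}
  by_contra hx
  obtain ⟨z, hz, w, rfl⟩ := h.inter_open_nonempty _ ho ⟨x, hx⟩
  exact hz (hw w)

/-- Injective restriction for a nonzero group gives dense image, provided this holds over every open. -/
theorem nonempty_of_injective [Nontrivial M] [Nonempty V.left]
    (h : Function.Injective ((EtCoh.const X M).obj.map m.op)) : Nonempty V'.left := by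
  obtain ⟨a, ha⟩ := exists_ne (0 : M)
  rcases isEmpty_or_nonempty V'.left with he | hne
  · exfalso
    haveI := he
    haveI := subsingleton_of_isEmpty (M := M) (V := V')
    exact ha (c_inj M (Classical.arbitrary V.left) (h (Subsingleton.elim _ _)))
  · exact hne

/-- Dense image and extension of clopens give surjective restriction. -/
theorem surjective_res [Finite M] (hm : IsOpenEmbedding m.left.base) (hd : Dense (Set.range m.left.base))
    (hc : ClopenExt (Set.range m.left.base)) : Function.Surjective ((EtCoh.const X M).obj.map m.op) := by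
  intro t
  have hopen : ∀ A : Set M, IsOpen (m.left.base '' (val t ⁻¹' A)) := fun A =>
    hm.isOpenMap _ (isLocallyConstant_val t A)
  have hdiff : ∀ A : Set M, Set.range m.left.base \ m.left.base '' (val t ⁻¹' A) = m.left.base '' (val t ⁻¹' Aᶜ) := by
    intro A
    ext z
    constructor
    · rintro ⟨⟨w, rfl⟩, hz⟩
      exact ⟨w, fun hw => hz ⟨w, hw, rfl⟩, rfl⟩
    · rintro ⟨w, hw, rfl⟩
      exact ⟨⟨w, rfl⟩, fun ⟨w', hw', e⟩ => hw (hm.injective e ▸ hw')⟩
  have hE : ∀ a : M, ∃ E : Set V.left, IsClopen E ∧ E ∩ Set.range m.left.base = m.left.base '' (val t ⁻¹' {a}) :=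
    fun a => hc _ (hopen _) (by rw [hdiff]; exact hopen _) (Set.image_subset_range _ _)
  choose E hE hEi using hE
  have hcov : ∀ z : V.left, ∃ a, z ∈ E a := by
    by_contra hh
    push Not at hh
    obtain ⟨z, hz⟩ := hh
    have ho : IsOpen (⋂ a, (E a)ᶜ) := isOpen_iInter_of_finite fun a => (hE a).1.isOpen_compl
    obtain ⟨y, hy, w, rfl⟩ := hd.inter_open_nonempty _ ho ⟨z, Set.mem_iInter.2 hz⟩
    have : m.left.base w ∈ E (val t w) ∩ Set.range m.left.base := by rw [hEi]; exact ⟨w, rfl, rfl⟩
    exact Set.mem_iInter.1 hy _ this.1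
  have huniq : ∀ a b z, z ∈ E a → z ∈ E b → a = b := by
    intro a b z ha hb
    obtain ⟨y, ⟨ya, yb⟩, hy⟩ := hd.inter_open_nonempty _ ((hE a).2.inter (hE b).2) ⟨z, ha, hb⟩
    have h1 : y ∈ m.left.base '' (val t ⁻¹' {a}) := by rw [← hEi]; exact ⟨ya, hy⟩
    have h2 : y ∈ m.left.base '' (val t ⁻¹' {b}) := by rw [← hEi]; exact ⟨yb, hy⟩
    obtain ⟨w, hw, rfl⟩ := h1
    obtain ⟨w', hw', e⟩ := h2
    obtain rfl := hm.injective e
    exact hw.symm.trans hw'
  choose g hg using hcov
  have hlc : IsLocallyConstant g := (IsLocallyConstant.iff_exists_open g).2 fun z =>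
    ⟨E (g z), (hE _).2, hg z, fun y hy => huniq _ _ y (hg y) hy⟩
  obtain ⟨s, hs⟩ := exists_val_eq (V := V) (M := M) ⟨g, hlc⟩
  refine ⟨s, val_injective _ _ fun w => ?_⟩
  rw [val_map, hs]
  have h1 : m.left.base w ∈ E (val t w) ∩ Set.range m.left.base := by rw [hEi]; exact ⟨w, rfl, rfl⟩
  exact huniq _ _ _ (hg _) h1.1

/-- Surjective restriction for a nonzero group makes clopens extend. -/
theorem clopenExt_of_surjective [Nontrivial M]
    (hs : Function.Surjective ((EtCoh.const X M).obj.map m.op)) : ClopenExt (Set.range m.left.base) := by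
  classical
  intro C hC hC' hsub
  obtain ⟨a, ha⟩ := exists_ne (0 : M)
  have h1 : IsOpen (m.left.base ⁻¹' C) := hC.preimage m.left.continuous
  have h2 : IsClosed (m.left.base ⁻¹' C) := ⟨by
    have : (m.left.base ⁻¹' C)ᶜ = m.left.base ⁻¹' (Set.range m.left.base \ C) := by
      ext w
      exact ⟨fun h => ⟨⟨w, rfl⟩, h⟩, fun h => h.2⟩
    rw [this]; exact hC'.preimage m.left.continuous⟩
  let f : LocallyConstant V'.left M :=
    ⟨fun w => if m.left.base w ∈ C then a else 0, (IsLocallyConstant.iff_exists_open _).2 fun w => by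
      by_cases hw : m.left.base w ∈ C
      · exact ⟨_, h1, hw, fun y (hy : m.left.base y ∈ C) => by simp [hw, hy]⟩
      · exact ⟨_, h2.isOpen_compl, hw, fun y (hy : ¬ m.left.base y ∈ C) => by simp [hw, hy]⟩⟩
  obtain ⟨t, ht⟩ := exists_val_eq f
  obtain ⟨s, rfl⟩ := hs t
  refine ⟨val s ⁻¹' {a}, (isLocallyConstant_val s).isClopen_fiber a, Set.ext fun z => ⟨?_, fun hz => ?_⟩⟩
  · rintro ⟨hz, w, rfl⟩
    have : (if m.left.base w ∈ C then a else 0) = a := ((ht w).symm.trans (val_map m s w)).trans hz
    by_contra hn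
    rw [if_neg hn] at this
    exact ha this.symm
  · obtain ⟨w, rfl⟩ := hsub hz
    refine ⟨?_, w, rfl⟩
    show val s _ = a
    rw [← val_map m s w, ht]
    show (if m.left.base w ∈ C then a else 0) = a
    rw [if_pos hz]

end Groth.L28.ConstSect
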